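import Cfsg.Agent.H15.MatAut

/-!
Tables for the centralizer in the Conway group of an element of cycle type `1^3 7^3`: the element,
its fixed sublattice with coordinates modulo two, and generators of the centralizer.
-/

set_option autoImplicit false
set_option maxRecDepth 100000

namespace Cfsg.Agent.H18.Monster.Held

/-- The images of the positions. -/
noncomputable def sigL : List ℕ :=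
  [0, 16, 19, 17, 8, 11, 15, 22, 3, 12, 10, 21, 13, 4, 2, 5, 18, 9, 14, 20, 1, 7, 6, 23]

/-- The preimages of the positions. -/
noncomputable def sigI : List ℕ :=
  [0, 20, 14, 8, 13, 15, 22, 21, 4, 17, 10, 5, 9, 12, 18, 6, 1, 3, 16, 2, 19, 11, 7, 23]

/-- The orbit of a position. -/
noncomputable def orbLab : List ℕ :=
  [1, 3, 3, 4, 4, 5, 5, 5, 4, 4, 2, 5, 4, 4, 3, 5, 3, 4, 3, 3, 3, 5, 5, 0]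

/-- The place of a position in its orbit. -/
noncomputable def orbPos : List ℕ :=
  [0, 0, 4, 0, 5, 0, 5, 3, 6, 2, 0, 1, 3, 4, 3, 6, 1, 1, 2, 5, 6, 2, 4, 0]

/-- The first position of each orbit. -/
noncomputable def orbRep : List ℕ :=
  [23, 0, 10, 1, 3, 5]

/-- A basis of the fixed sublattice. -/
noncomputable def basL : List (List ℤ) :=
  [
    [-4, 0, 0, 0, 0, 0, 0, 0, 0, 0, -4, 0, 0, 0, 0, 0, 0, 0, 0, 0, 0, 0, 0, 0],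
    [4, 0, 0, 2, 2, 0, 0, 0, 2, 2, -2, 0, 2, 2, 0, 0, 0, 2, 0, 0, 0, 0, 0, 0],
    [1, 1, 1, 1, 1, 1, 1, 1, 1, 1, 1, 1, 1, 1, 1, 1, 1, 1, 1, 1, 1, 1, 1, 5],
    [0, -2, -2, 0, 0, 0, 0, 0, 0, 0, 0, 0, 0, 0, -2, 0, -2, 0, -2, -2, -2, 0, 0, -2],
    [3, 1, 1, 1, 1, -1, -1, -1, 1, 1, 1, -1, 1, 1, 1, -1, 1, 1, 1, 1, 1, -1, -1, 1],
    [3, -1, -1, -1, -1, -1, -1, -1, -1, -1, -1, -1, -1, -1, -1, -1, -1, -1, -1, -1, -1, -1, -1, -1]]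

/-- Lattice vectors dual to the basis. -/
noncomputable def dualL : List (List ℤ) :=
  [
    [-1, 1, -1, -1, 1, -1, -3, 1, 1, 1, -1, 1, 1, -1, -1, 1, 1, -1, 1, -1, -1, -1, -1, 1],
    [1, -1, 1, -3, 1, 1, 1, 1, 1, 1, -1, 1, 1, -1, 1, 1, 1, 1, 1, -1, -1, -1, -1, -1],
    [0, -2, -2, 0, 0, 0, 0, 0, 0, 0, 0, 0, 0, 0, -2, 0, -2, 0, 2, 2, 2, 0, 0, 2],
    [-1, -1, -1, 1, -1, -1, -3, 1, 1, 1, 1, 1, 1, 1, -1, 1, -1, -1, -1, 1, -1, -1, -1, 1],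
    [-1, -1, -1, -1, 1, -1, -1, -3, 1, 1, 1, 1, 1, 1, 1, -1, 1, -1, -1, -1, 1, -1, -1, 1],
    [1, 1, -1, -1, -1, 1, -1, 1, -3, 1, -1, 1, 1, -1, 1, -1, 1, 1, -1, -1, -1, -1, -1, 1]]

/-- The vectors giving the coordinates modulo two. -/
noncomputable def codeRows : List (List ℤ) :=
  [
    [-1, -3, -5, -5, 1, -1, -7, 1, 1, 5, -1, 5, 5, -1, -1, 1, 1, -1, 1, -1, -1, -5, -5, 5],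
    [0, -2, -2, -4, 2, 0, -2, 2, 2, 2, -2, 2, 2, -2, -2, 2, 0, 0, 4, 0, 0, -2, -2, 2],
    [0, -2, -4, -6, 2, 0, -4, 0, 0, 4, -2, 4, 4, -2, 0, 0, 2, 0, 2, -2, 0, -4, -4, 4],
    [0, -2, -4, -2, 0, 0, -2, -2, -2, 2, 0, 2, 2, 0, 0, -2, 0, 0, 0, 0, 2, -2, -2, 4],
    [-2, -2, -2, -4, 2, -2, -6, 0, 4, 4, 0, 4, 4, 0, 0, 2, 2, -2, 0, -2, -2, -4, -4, 2],
    [-2, 0, -4, -2, 0, -2, -8, 0, 0, 4, 0, 4, 4, 0, 0, 0, 2, -2, -2, -2, -2, -4, -4, 4]]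

/-- Short fixed vectors of all classes. -/
noncomputable def repL : List (List ℤ) :=
  [
    [0, 0, 0, 0, 0, 0, 0, 0, 0, 0, 0, 0, 0, 0, 0, 0, 0, 0, 0, 0, 0, 0, 0, 0],
    [0, 0, 0, 0, 0, 0, 0, 0, 0, 0, 0, 0, 0, 0, 0, 0, 0, 0, 0, 0, 0, 0, 0, -8],
    [4, 0, 0, -2, -2, 0, 0, 0, -2, -2, -2, 0, -2, -2, 0, 0, 0, -2, 0, 0, 0, 0, 0, -4],
    [-4, 0, 0, -2, -2, 0, 0, 0, -2, -2, -2, 0, -2, -2, 0, 0, 0, -2, 0, 0, 0, 0, 0, -4],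
    [-2, 0, 0, 0, 0, -2, -2, -2, 0, 0, 4, -2, 0, 0, 0, -2, 0, 0, 0, 0, 0, -2, -2, -4],
    [-2, 0, 0, 0, 0, -2, -2, -2, 0, 0, -4, -2, 0, 0, 0, -2, 0, 0, 0, 0, 0, -2, -2, -4],
    [-4, -2, -2, 0, 0, 0, 0, 0, 0, 0, -4, 0, 0, 0, -2, 0, -2, 0, -2, -2, -2, 0, 0, -2],
    [-4, -2, -2, 0, 0, 0, 0, 0, 0, 0, 4, 0, 0, 0, -2, 0, -2, 0, -2, -2, -2, 0, 0, -2],
    [-3, -1, -1, 1, 1, 1, 1, 1, 1, 1, -3, 1, 1, 1, -1, 1, -1, 1, -1, -1, -1, 1, 1, -5],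
    [3, 1, 1, -1, -1, -1, -1, -1, -1, -1, 3, -1, -1, -1, 1, -1, 1, -1, 1, 1, 1, -1, -1, -3],
    [1, -1, -1, -1, -1, 1, 1, 1, -1, -1, 3, 1, -1, -1, -1, 1, -1, -1, -1, -1, -1, 1, 1, -1],
    [1, -1, -1, -1, -1, 1, 1, 1, -1, -1, -5, 1, -1, -1, -1, 1, -1, -1, -1, -1, -1, 1, 1, -1],
    [3, -1, -1, 1, 1, -1, -1, -1, 1, 1, 1, -1, 1, 1, -1, -1, -1, 1, -1, -1, -1, -1, -1, -1],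
    [-5, -1, -1, 1, 1, -1, -1, -1, 1, 1, 1, -1, 1, 1, -1, -1, -1, 1, -1, -1, -1, -1, -1, -1],
    [1, 1, 1, 1, 1, 1, 1, 1, 1, 1, 1, 1, 1, 1, 1, 1, 1, 1, 1, 1, 1, 1, 1, -3],
    [-1, -1, -1, -1, -1, -1, -1, -1, -1, -1, -1, -1, -1, -1, -1, -1, -1, -1, -1, -1, -1, -1, -1, -5],
    [0, -2, -2, -2, -2, 0, 0, 0, -2, -2, -2, 0, -2, -2, -2, 0, -2, -2, -2, -2, -2, 0, 0, -2],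
    [-2, 0, 0, 0, 0, -2, -2, -2, 0, 0, 0, -2, 0, 0, 0, -2, 0, 0, 0, 0, 0, -2, -2, 0],
    [4, 2, 2, 0, 0, 0, 0, 0, 0, 0, 0, 0, 0, 0, 2, 0, 2, 0, 2, 2, 2, 0, 0, -2],
    [-4, 2, 2, 0, 0, 0, 0, 0, 0, 0, 0, 0, 0, 0, 2, 0, 2, 0, 2, 2, 2, 0, 0, -2],
    [0, 0, 0, 0, 0, 0, 0, 0, 0, 0, -4, 0, 0, 0, 0, 0, 0, 0, 0, 0, 0, 0, 0, -4],
    [0, 0, 0, 0, 0, 0, 0, 0, 0, 0, 4, 0, 0, 0, 0, 0, 0, 0, 0, 0, 0, 0, 0, -4],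
    [-4, 0, 0, 2, 2, 0, 0, 0, 2, 2, -2, 0, 2, 2, 0, 0, 0, 2, 0, 0, 0, 0, 0, 0],
    [-4, 0, 0, -2, -2, 0, 0, 0, -2, -2, 2, 0, -2, -2, 0, 0, 0, -2, 0, 0, 0, 0, 0, 0],
    [3, -1, -1, 1, 1, -1, -1, -1, 1, 1, -3, -1, 1, 1, -1, -1, -1, 1, -1, -1, -1, -1, -1, -5],
    [-3, 1, 1, -1, -1, 1, 1, 1, -1, -1, 3, 1, -1, -1, 1, 1, 1, -1, 1, 1, 1, 1, 1, -3],
    [-1, -1, -1, -1, -1, -1, -1, -1, -1, -1, -5, -1, -1, -1, -1, -1, -1, -1, -1, -1, -1, -1, -1, -1],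
    [-1, -1, -1, -1, -1, -1, -1, -1, -1, -1, 3, -1, -1, -1, -1, -1, -1, -1, -1, -1, -1, -1, -1, -1],
    [-3, -1, -1, 1, 1, 1, 1, 1, 1, 1, 1, 1, 1, 1, -1, 1, -1, 1, -1, -1, -1, 1, 1, -1],
    [5, -1, -1, 1, 1, 1, 1, 1, 1, 1, 1, 1, 1, 1, -1, 1, -1, 1, -1, -1, -1, 1, 1, -1],
    [1, -1, -1, -1, -1, 1, 1, 1, -1, -1, -1, 1, -1, -1, -1, 1, -1, -1, -1, -1, -1, 1, 1, -5],
    [-1, 1, 1, 1, 1, -1, -1, -1, 1, 1, 1, -1, 1, 1, 1, -1, 1, 1, 1, 1, 1, -1, -1, -3],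
    [-2, -2, -2, 0, 0, -2, -2, -2, 0, 0, 0, -2, 0, 0, -2, -2, -2, 0, -2, -2, -2, -2, -2, -2],
    [0, 0, 0, -2, -2, 0, 0, 0, -2, -2, -2, 0, -2, -2, 0, 0, 0, -2, 0, 0, 0, 0, 0, 0],
    [-4, 0, 0, 0, 0, 0, 0, 0, 0, 0, 0, 0, 0, 0, 0, 0, 0, 0, 0, 0, 0, 0, 0, -4],
    [4, 0, 0, 0, 0, 0, 0, 0, 0, 0, 0, 0, 0, 0, 0, 0, 0, 0, 0, 0, 0, 0, 0, -4],
    [0, 2, 2, 0, 0, 0, 0, 0, 0, 0, 4, 0, 0, 0, 2, 0, 2, 0, 2, 2, 2, 0, 0, -2],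
    [0, 2, 2, 0, 0, 0, 0, 0, 0, 0, -4, 0, 0, 0, 2, 0, 2, 0, 2, 2, 2, 0, 0, -2],
    [-2, 0, 0, 0, 0, 2, 2, 2, 0, 0, -4, 2, 0, 0, 0, 2, 0, 0, 0, 0, 0, 2, 2, 0],
    [-2, 0, 0, 0, 0, 2, 2, 2, 0, 0, 4, 2, 0, 0, 0, 2, 0, 0, 0, 0, 0, 2, 2, 0],
    [-3, -1, -1, -1, -1, 1, 1, 1, -1, -1, 3, 1, -1, -1, -1, 1, -1, -1, -1, -1, -1, 1, 1, -5],
    [3, 1, 1, 1, 1, -1, -1, -1, 1, 1, -3, -1, 1, 1, 1, -1, 1, 1, 1, 1, 1, -1, -1, -3],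
    [1, -1, -1, 1, 1, 1, 1, 1, 1, 1, -3, 1, 1, 1, -1, 1, -1, 1, -1, -1, -1, 1, 1, -1],
    [1, -1, -1, 1, 1, 1, 1, 1, 1, 1, 5, 1, 1, 1, -1, 1, -1, 1, -1, -1, -1, 1, 1, -1],
    [-5, -1, -1, -1, -1, -1, -1, -1, -1, -1, -1, -1, -1, -1, -1, -1, -1, -1, -1, -1, -1, -1, -1, -1],
    [3, -1, -1, -1, -1, -1, -1, -1, -1, -1, -1, -1, -1, -1, -1, -1, -1, -1, -1, -1, -1, -1, -1, -1],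
    [-1, -1, -1, 1, 1, -1, -1, -1, 1, 1, 1, -1, 1, 1, -1, -1, -1, 1, -1, -1, -1, -1, -1, -5],
    [1, 1, 1, -1, -1, 1, 1, 1, -1, -1, -1, 1, -1, -1, 1, 1, 1, -1, 1, 1, 1, 1, 1, -3],
    [0, 2, 2, 0, 0, 0, 0, 0, 0, 0, 0, 0, 0, 0, 2, 0, 2, 0, 2, 2, 2, 0, 0, -6],
    [0, -2, -2, 0, 0, 0, 0, 0, 0, 0, 0, 0, 0, 0, -2, 0, -2, 0, -2, -2, -2, 0, 0, -2],
    [2, 0, 0, 0, 0, -2, -2, -2, 0, 0, 0, -2, 0, 0, 0, -2, 0, 0, 0, 0, 0, -2, -2, -4],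
    [-2, 0, 0, 0, 0, 2, 2, 2, 0, 0, 0, 2, 0, 0, 0, 2, 0, 0, 0, 0, 0, 2, 2, -4],
    [0, 0, 0, -2, -2, 0, 0, 0, -2, -2, 2, 0, -2, -2, 0, 0, 0, -2, 0, 0, 0, 0, 0, -4],
    [0, 0, 0, 2, 2, 0, 0, 0, 2, 2, -2, 0, 2, 2, 0, 0, 0, 2, 0, 0, 0, 0, 0, -4],
    [-4, 0, 0, 0, 0, 0, 0, 0, 0, 0, 4, 0, 0, 0, 0, 0, 0, 0, 0, 0, 0, 0, 0, 0],
    [-4, 0, 0, 0, 0, 0, 0, 0, 0, 0, -4, 0, 0, 0, 0, 0, 0, 0, 0, 0, 0, 0, 0, 0],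
    [3, -1, -1, -1, -1, -1, -1, -1, -1, -1, 3, -1, -1, -1, -1, -1, -1, -1, -1, -1, -1, -1, -1, -5],
    [-3, 1, 1, 1, 1, 1, 1, 1, 1, 1, -3, 1, 1, 1, 1, 1, 1, 1, 1, 1, 1, 1, 1, -3],
    [-1, -1, -1, 1, 1, -1, -1, -1, 1, 1, 5, -1, 1, 1, -1, -1, -1, 1, -1, -1, -1, -1, -1, -1],
    [-1, -1, -1, 1, 1, -1, -1, -1, 1, 1, -3, -1, 1, 1, -1, -1, -1, 1, -1, -1, -1, -1, -1, -1],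
    [5, -1, -1, -1, -1, 1, 1, 1, -1, -1, -1, 1, -1, -1, -1, 1, -1, -1, -1, -1, -1, 1, 1, -1],
    [-3, -1, -1, -1, -1, 1, 1, 1, -1, -1, -1, 1, -1, -1, -1, 1, -1, -1, -1, -1, -1, 1, 1, -1],
    [-1, 1, 1, -1, -1, -1, -1, -1, -1, -1, -1, -1, -1, -1, 1, -1, 1, -1, 1, 1, 1, -1, -1, -3],
    [1, -1, -1, 1, 1, 1, 1, 1, 1, 1, 1, 1, 1, 1, -1, 1, -1, 1, -1, -1, -1, 1, 1, -5]]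

/-- The squared lengths of the short vectors. -/
noncomputable def repNorm : List ℤ :=
  [0, 64, 64, 64, 64, 64, 64, 64, 64, 48, 32, 48, 32, 48, 32, 48, 64, 32, 48, 48, 32, 32, 48, 48, 64, 48, 48, 32, 32, 48, 48, 32, 64, 32, 32, 32, 48, 48, 48, 48, 64, 48, 32, 48, 48, 32, 48, 32, 64, 32, 48, 48, 48, 48, 32, 32, 64, 48, 48, 32, 48, 32, 32, 48]

/-- The fixed code words. -/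
noncomputable def fixWords : List ℕ :=
  [0, 145176, 6326497, 6471673, 10305542, 10450718, 16632039, 16777215]

/-- The images under the commuting code permutations. -/
noncomputable def tauL : List (List ℕ) :=
  [
    [0, 1, 2, 3, 4, 5, 6, 7, 8, 9, 10, 11, 12, 13, 14, 15, 16, 17, 18, 19, 20, 21, 22, 23],
    [10, 1, 2, 22, 21, 12, 17, 8, 7, 15, 0, 13, 5, 11, 14, 9, 16, 6, 18, 19, 20, 4, 3, 23],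
    [0, 3, 13, 19, 14, 15, 22, 21, 2, 1, 23, 5, 16, 18, 12, 6, 17, 20, 9, 4, 8, 11, 7, 10],
    [23, 3, 13, 7, 11, 16, 20, 2, 21, 6, 0, 18, 15, 5, 12, 1, 17, 22, 9, 4, 8, 14, 19, 10],
    [10, 5, 22, 16, 20, 4, 12, 17, 1, 14, 23, 8, 2, 19, 7, 13, 11, 18, 21, 6, 15, 3, 9, 0],
    [23, 5, 22, 9, 3, 2, 18, 1, 17, 13, 10, 19, 4, 8, 7, 14, 11, 12, 21, 6, 15, 20, 16, 0]]

/-- The preimages under the commuting code permutations. -/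
noncomputable def tauI : List (List ℕ) :=
  [
    [0, 1, 2, 3, 4, 5, 6, 7, 8, 9, 10, 11, 12, 13, 14, 15, 16, 17, 18, 19, 20, 21, 22, 23],
    [10, 1, 2, 22, 21, 12, 17, 8, 7, 15, 0, 13, 5, 11, 14, 9, 16, 6, 18, 19, 20, 4, 3, 23],
    [0, 9, 8, 1, 19, 11, 15, 22, 20, 18, 23, 21, 14, 2, 4, 5, 12, 16, 13, 3, 17, 7, 6, 10],
    [10, 15, 7, 1, 19, 13, 9, 3, 20, 18, 23, 4, 14, 2, 21, 12, 5, 16, 11, 22, 6, 8, 17, 0],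
    [23, 8, 12, 21, 5, 1, 19, 14, 11, 22, 0, 16, 6, 15, 9, 20, 3, 7, 17, 13, 4, 18, 2, 10],
    [23, 7, 5, 4, 12, 1, 19, 14, 13, 3, 10, 16, 17, 9, 15, 20, 22, 8, 6, 11, 21, 18, 2, 0]]

/-- The action of the monomial centralizer on the first three coordinates. -/
noncomputable def muS : List (List ℕ) :=
  [
    [1, 2, 4],
    [1, 2, 5],
    [1, 3, 4],
    [1, 3, 5],
    [1, 3, 5],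
    [1, 3, 4],
    [1, 2, 5],
    [1, 2, 4],
    [1, 4, 2],
    [1, 5, 2],
    [1, 4, 3],
    [1, 5, 3],
    [1, 5, 3],
    [1, 4, 3],
    [1, 5, 2],
    [1, 4, 2],
    [1, 7, 4],
    [1, 6, 5],
    [1, 6, 4],
    [1, 7, 5],
    [1, 7, 5],
    [1, 6, 4],
    [1, 6, 5],
    [1, 7, 4],
    [1, 4, 7],
    [1, 5, 6],
    [1, 4, 6],
    [1, 5, 7],
    [1, 5, 7],
    [1, 4, 6],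
    [1, 5, 6],
    [1, 4, 7],
    [1, 7, 2],
    [1, 6, 2],
    [1, 6, 3],
    [1, 7, 3],
    [1, 7, 3],
    [1, 6, 3],
    [1, 6, 2],
    [1, 7, 2],
    [1, 2, 7],
    [1, 2, 6],
    [1, 3, 6],
    [1, 3, 7],
    [1, 3, 7],
    [1, 3, 6],
    [1, 2, 6],
    [1, 2, 7]]

/-- The action of the element of order seven. -/
noncomputable def muH : List ℕ :=
  [6, 1, 5, 16, 56, 48]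

/-- An element commuting with the permutation. -/
noncomputable def matH : H15.Mat :=
  ⟨[
    [4, -2, -2, 0, 0, 0, 0, 0, 0, 0, 4, 0, 0, 0, -2, 0, -2, 0, -2, -2, -2, 0, 0, -2],
    [0, -2, 2, -4, 0, 0, 0, 0, 0, 0, 0, 0, 0, 0, -2, 0, -2, 0, 2, 2, -2, 0, -4, 2],
    [0, -2, -2, 0, 0, 0, 0, 0, 0, 0, 0, -4, 0, -4, -2, 0, 2, 0, 2, -2, 2, 0, 0, 2],
    [-2, 0, 0, -2, 2, 2, 2, -2, 2, 2, 2, -2, -2, 2, 0, -2, 0, -2, 0, 0, 0, -2, 2, 0],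
    [-2, 0, 0, 2, -2, -2, 2, 2, -2, 2, 2, -2, 2, 2, 0, -2, 0, -2, 0, 0, 0, 2, -2, 0],
    [0, 2, 2, 0, 0, 0, 0, 0, 0, 4, 0, 0, 0, 0, -2, 4, -2, 0, -2, -2, 2, 0, 0, 2],
    [0, -2, 2, 4, 0, 0, 0, 0, 0, 0, 0, 0, 0, 0, -2, 0, -2, 0, 2, 2, -2, 0, 4, 2],
    [0, 2, -2, 0, 4, 0, 0, 0, 0, 0, 0, 0, 0, 0, 2, 0, -2, 0, 2, -2, -2, 4, 0, 2],
    [-2, 0, 0, -2, 2, -2, -2, 2, -2, -2, 2, -2, 2, 2, 0, 2, 0, 2, 0, 0, 0, -2, 2, 0],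
    [-2, 0, 0, 2, -2, 2, -2, -2, 2, -2, 2, -2, -2, 2, 0, 2, 0, 2, 0, 0, 0, 2, -2, 0],
    [-2, 0, 0, -2, -2, 2, 2, 2, -2, -2, 2, 2, -2, -2, 0, 2, 0, -2, 0, 0, 0, 2, 2, 0],
    [0, 2, -2, 0, 0, 4, 0, 0, 0, 0, 0, 0, 4, 0, -2, 0, 2, 0, -2, 2, -2, 0, 0, 2],
    [-2, 0, 0, 2, 2, 2, -2, 2, -2, 2, 2, 2, -2, -2, 0, -2, 0, 2, 0, 0, 0, -2, -2, 0],
    [-2, 0, 0, -2, -2, -2, -2, -2, 2, 2, 2, 2, 2, -2, 0, -2, 0, 2, 0, 0, 0, 2, 2, 0],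
    [0, 2, -2, 0, 0, -4, 0, 0, 0, 0, 0, 0, -4, 0, -2, 0, 2, 0, -2, 2, -2, 0, 0, 2],
    [0, -2, -2, 0, 0, 0, 4, 0, 0, 0, 0, 0, 0, 0, 2, 0, -2, 4, -2, 2, 2, 0, 0, 2],
    [0, -2, -2, 0, 0, 0, -4, 0, 0, 0, 0, 0, 0, 0, 2, 0, -2, -4, -2, 2, 2, 0, 0, 2],
    [-2, 0, 0, 2, 2, -2, 2, -2, 2, -2, 2, 2, 2, -2, 0, 2, 0, -2, 0, 0, 0, -2, -2, 0],
    [0, 2, 2, 0, 0, 0, 0, 0, 0, -4, 0, 0, 0, 0, -2, -4, -2, 0, -2, -2, 2, 0, 0, 2],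
    [0, 2, -2, 0, -4, 0, 0, 0, 0, 0, 0, 0, 0, 0, 2, 0, -2, 0, 2, -2, -2, -4, 0, 2],
    [0, -2, 2, 0, 0, 0, 0, -4, -4, 0, 0, 0, 0, 0, 2, 0, 2, 0, -2, -2, -2, 0, 0, 2],
    [0, -2, -2, 0, 0, 0, 0, 0, 0, 0, 0, 4, 0, 4, -2, 0, 2, 0, 2, -2, 2, 0, 0, 2],
    [0, -2, 2, 0, 0, 0, 0, 4, 4, 0, 0, 0, 0, 0, 2, 0, 2, 0, -2, -2, -2, 0, 0, 2],
    [-4, -2, -2, 0, 0, 0, 0, 0, 0, 0, -4, 0, 0, 0, -2, 0, -2, 0, -2, -2, -2, 0, 0, -2]],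
  [
    [4, 0, 0, -2, -2, 0, 0, 0, -2, -2, -2, 0, -2, -2, 0, 0, 0, -2, 0, 0, 0, 0, 0, -4],
    [-2, -2, -2, 0, 0, 2, -2, 2, 0, 0, 0, 2, 0, 0, 2, -2, -2, 0, 2, 2, -2, -2, -2, -2],
    [-2, 2, -2, 0, 0, 2, 2, -2, 0, 0, 0, -2, 0, 0, -2, -2, -2, 0, 2, -2, 2, -2, 2, -2],
    [0, -4, 0, -2, 2, 0, 4, 0, -2, 2, -2, 0, 2, -2, 0, 0, 0, 2, 0, 0, 0, 0, 0, 0],
    [0, 0, 0, 2, -2, 0, 0, 4, 2, -2, -2, 0, 2, -2, 0, 0, 0, 2, 0, -4, 0, 0, 0, 0],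
    [0, 0, 0, 2, -2, 0, 0, 0, -2, 2, 2, 4, 2, -2, -4, 0, 0, -2, 0, 0, 0, 0, 0, 0],
    [0, 0, 0, 2, 2, 0, 0, 0, -2, -2, 2, 0, -2, -2, 0, 4, -4, 2, 0, 0, 0, 0, 0, 0],
    [0, 0, 0, -2, 2, 0, 0, 0, 2, -2, 2, 0, 2, -2, 0, 0, 0, -2, 0, 0, -4, 0, 4, 0],
    [0, 0, 0, 2, -2, 0, 0, 0, -2, 2, -2, 0, -2, 2, 0, 0, 0, 2, 0, 0, -4, 0, 4, 0],
    [0, 0, 0, 2, 2, 4, 0, 0, -2, -2, -2, 0, 2, 2, 0, 0, 0, -2, -4, 0, 0, 0, 0, 0],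
    [4, 0, 0, 2, 2, 0, 0, 0, 2, 2, 2, 0, 2, 2, 0, 0, 0, 2, 0, 0, 0, 0, 0, -4],
    [0, 0, -4, -2, -2, 0, 0, 0, -2, -2, 2, 0, 2, 2, 0, 0, 0, 2, 0, 0, 0, 4, 0, 0],
    [0, 0, 0, -2, 2, 0, 0, 0, 2, -2, -2, 4, -2, 2, -4, 0, 0, 2, 0, 0, 0, 0, 0, 0],
    [0, 0, -4, 2, 2, 0, 0, 0, 2, 2, -2, 0, -2, -2, 0, 0, 0, -2, 0, 0, 0, 4, 0, 0],
    [-2, -2, -2, 0, 0, -2, -2, 2, 0, 0, 0, -2, 0, 0, -2, 2, 2, 0, -2, 2, 2, -2, 2, -2],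
    [0, 0, 0, -2, -2, 4, 0, 0, 2, 2, 2, 0, -2, -2, 0, 0, 0, 2, -4, 0, 0, 0, 0, 0],
    [-2, -2, 2, 0, 0, -2, -2, -2, 0, 0, 0, 2, 0, 0, 2, -2, -2, 0, -2, -2, 2, 2, 2, -2],
    [0, 0, 0, -2, -2, 0, 0, 0, 2, 2, -2, 0, 2, 2, 0, 4, -4, -2, 0, 0, 0, 0, 0, 0],
    [-2, 2, 2, 0, 0, -2, 2, 2, 0, 0, 0, -2, 0, 0, -2, -2, -2, 0, -2, 2, -2, 2, -2, -2],
    [-2, 2, -2, 0, 0, -2, 2, -2, 0, 0, 0, 2, 0, 0, 2, 2, 2, 0, -2, -2, -2, -2, -2, -2],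
    [-2, -2, 2, 0, 0, 2, -2, -2, 0, 0, 0, -2, 0, 0, -2, 2, 2, 0, 2, -2, -2, 2, -2, -2],
    [0, 0, 0, -2, 2, 0, 0, 4, -2, 2, 2, 0, -2, 2, 0, 0, 0, -2, 0, -4, 0, 0, 0, 0],
    [0, -4, 0, 2, -2, 0, 4, 0, 2, -2, 2, 0, -2, 2, 0, 0, 0, -2, 0, 0, 0, 0, 0, 0],
    [-2, 2, 2, 0, 0, 2, 2, 2, 0, 0, 0, 2, 0, 0, 2, 2, 2, 0, 2, 2, 2, 2, 2, -2]]⟩

/-- An element cubing the permutation. -/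
noncomputable def matK : H15.Mat :=
  ⟨[
    [0, 2, 2, -2, -2, 0, 0, 0, -2, -2, -2, 0, -2, -2, 2, 0, 2, -2, 2, 2, 2, 0, 0, 2],
    [0, 2, -2, 2, -2, 0, 0, 0, 2, -2, -2, 0, -2, 2, 2, 0, -2, 2, -2, 2, 2, 0, 0, -2],
    [0, -2, 2, -2, 2, 0, 0, 0, 2, 2, -2, 0, -2, 2, 2, 0, 2, -2, -2, 2, -2, 0, 0, -2],
    [-2, 0, 0, 0, 0, -2, -2, -2, 0, 0, 0, -2, 0, 0, 0, -2, 0, 0, 0, 0, 0, 6, -2, 0],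
    [-2, 0, 0, 0, 0, -2, -2, 6, 0, 0, 0, -2, 0, 0, 0, -2, 0, 0, 0, 0, 0, -2, -2, 0],
    [0, 2, -2, 2, 2, 0, 0, 0, 2, -2, -2, 0, 2, -2, 2, 0, 2, -2, -2, -2, -2, 0, 0, 2],
    [0, -2, 2, 2, -2, 0, 0, 0, 2, -2, -2, 0, -2, 2, -2, 0, 2, 2, 2, -2, -2, 0, 0, 2],
    [0, -2, -2, 2, 2, 0, 0, 0, -2, 2, -2, 0, -2, -2, 2, 0, -2, 2, 2, 2, -2, 0, 0, 2],
    [-2, 0, 0, 0, 0, -2, -2, -2, 0, 0, 0, -2, 0, 0, 0, 6, 0, 0, 0, 0, 0, -2, -2, 0],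
    [-2, 0, 0, 0, 0, -2, -2, -2, 0, 0, 0, 6, 0, 0, 0, -2, 0, 0, 0, 0, 0, -2, -2, 0],
    [6, 0, 0, 0, 0, -2, -2, -2, 0, 0, 0, -2, 0, 0, 0, -2, 0, 0, 0, 0, 0, -2, -2, 0],
    [0, -2, 2, -2, -2, 0, 0, 0, 2, 2, -2, 0, 2, -2, 2, 0, -2, 2, -2, -2, 2, 0, 0, 2],
    [-2, 0, 0, 0, 0, -2, -2, -2, 0, 0, 0, -2, 0, 0, 0, -2, 0, 0, 0, 0, 0, -2, 6, 0],
    [-2, 0, 0, 0, 0, 6, -2, -2, 0, 0, 0, -2, 0, 0, 0, -2, 0, 0, 0, 0, 0, -2, -2, 0],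
    [0, 2, -2, -2, -2, 0, 0, 0, 2, 2, -2, 0, 2, -2, -2, 0, 2, 2, 2, 2, -2, 0, 0, -2],
    [0, 2, 2, 2, -2, 0, 0, 0, -2, 2, -2, 0, 2, 2, -2, 0, -2, -2, -2, 2, -2, 0, 0, 2],
    [0, -2, -2, 2, -2, 0, 0, 0, -2, 2, -2, 0, 2, 2, 2, 0, 2, -2, 2, -2, 2, 0, 0, -2],
    [-2, 0, 0, 0, 0, -2, 6, -2, 0, 0, 0, -2, 0, 0, 0, -2, 0, 0, 0, 0, 0, -2, -2, 0],
    [0, -2, 2, 2, 2, 0, 0, 0, 2, -2, -2, 0, 2, -2, -2, 0, -2, -2, 2, 2, 2, 0, 0, -2],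
    [0, 2, 2, 2, 2, 0, 0, 0, -2, 2, -2, 0, -2, -2, -2, 0, 2, 2, -2, -2, 2, 0, 0, -2],
    [0, 2, 2, -2, 2, 0, 0, 0, -2, -2, -2, 0, 2, 2, 2, 0, -2, 2, 2, -2, -2, 0, 0, -2],
    [0, 2, -2, -2, 2, 0, 0, 0, 2, 2, -2, 0, -2, 2, -2, 0, -2, -2, 2, -2, 2, 0, 0, 2],
    [0, -2, -2, -2, 2, 0, 0, 0, -2, -2, -2, 0, 2, 2, -2, 0, 2, 2, -2, 2, 2, 0, 0, 2],
    [0, -2, -2, -2, -2, 0, 0, 0, -2, -2, -2, 0, -2, -2, -2, 0, -2, -2, -2, -2, -2, 0, 0, -2]],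
  [
    [0, 0, 0, -2, -2, 0, 0, 0, -2, -2, 6, 0, -2, -2, 0, 0, 0, -2, 0, 0, 0, 0, 0, 0],
    [2, 2, -2, 0, 0, 2, -2, -2, 0, 0, 0, -2, 0, 0, 2, 2, -2, 0, -2, 2, 2, 2, -2, -2],
    [2, -2, 2, 0, 0, -2, 2, -2, 0, 0, 0, 2, 0, 0, -2, 2, -2, 0, 2, 2, 2, -2, -2, -2],
    [-2, 2, -2, 0, 0, 2, 2, 2, 0, 0, 0, -2, 0, 0, -2, 2, 2, 0, 2, 2, -2, -2, -2, -2],
    [-2, -2, 2, 0, 0, 2, -2, 2, 0, 0, 0, -2, 0, 0, -2, -2, -2, 0, 2, 2, 2, 2, 2, -2],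
    [0, 0, 0, -2, -2, 0, 0, 0, -2, -2, -2, 0, -2, 6, 0, 0, 0, -2, 0, 0, 0, 0, 0, 0],
    [0, 0, 0, -2, -2, 0, 0, 0, -2, -2, -2, 0, -2, -2, 0, 0, 0, 6, 0, 0, 0, 0, 0, 0],
    [0, 0, 0, -2, 6, 0, 0, 0, -2, -2, -2, 0, -2, -2, 0, 0, 0, -2, 0, 0, 0, 0, 0, 0],
    [-2, 2, 2, 0, 0, 2, 2, -2, 0, 0, 0, 2, 0, 0, 2, -2, -2, 0, 2, -2, -2, 2, -2, -2],
    [-2, -2, 2, 0, 0, -2, -2, 2, 0, 0, 0, 2, 0, 0, 2, 2, 2, 0, -2, 2, -2, 2, -2, -2],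
    [-2, -2, -2, 0, 0, -2, -2, -2, 0, 0, 0, -2, 0, 0, -2, -2, -2, 0, -2, -2, -2, -2, -2, -2],
    [0, 0, 0, -2, -2, 0, 0, 0, -2, 6, -2, 0, -2, -2, 0, 0, 0, -2, 0, 0, 0, 0, 0, 0],
    [-2, -2, -2, 0, 0, 2, -2, -2, 0, 0, 0, 2, 0, 0, 2, 2, 2, 0, 2, -2, 2, -2, 2, -2],
    [-2, 2, 2, 0, 0, -2, 2, -2, 0, 0, 0, -2, 0, 0, -2, 2, 2, 0, -2, -2, 2, 2, 2, -2],
    [2, 2, 2, 0, 0, 2, -2, 2, 0, 0, 0, 2, 0, 0, -2, -2, 2, 0, -2, -2, 2, -2, -2, -2],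
    [0, 0, 0, -2, -2, 0, 0, 0, 6, -2, -2, 0, -2, -2, 0, 0, 0, -2, 0, 0, 0, 0, 0, 0],
    [2, -2, 2, 0, 0, 2, 2, -2, 0, 0, 0, -2, 0, 0, 2, -2, 2, 0, -2, 2, -2, -2, 2, -2],
    [-2, 2, -2, 0, 0, -2, 2, 2, 0, 0, 0, 2, 0, 0, 2, -2, -2, 0, -2, 2, 2, -2, 2, -2],
    [2, -2, -2, 0, 0, -2, 2, 2, 0, 0, 0, -2, 0, 0, 2, -2, 2, 0, 2, -2, 2, 2, -2, -2],
    [2, 2, 2, 0, 0, -2, -2, 2, 0, 0, 0, -2, 0, 0, 2, 2, -2, 0, 2, -2, -2, -2, 2, -2],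
    [2, 2, -2, 0, 0, -2, -2, -2, 0, 0, 0, 2, 0, 0, -2, -2, 2, 0, 2, 2, -2, 2, 2, -2],
    [0, 0, 0, 6, -2, 0, 0, 0, -2, -2, -2, 0, -2, -2, 0, 0, 0, -2, 0, 0, 0, 0, 0, 0],
    [0, 0, 0, -2, -2, 0, 0, 0, -2, -2, -2, 0, 6, -2, 0, 0, 0, -2, 0, 0, 0, 0, 0, 0],
    [2, -2, -2, 0, 0, 2, 2, 2, 0, 0, 0, 2, 0, 0, -2, 2, -2, 0, -2, -2, -2, 2, 2, -2]]⟩

end Cfsg.Agent.H18.Monster.Held
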